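import Groth.Agent.DimTheory.IrrFibres
import Mathlib.AlgebraicGeometry.Morphisms.UnderlyingMap

/-! Points of one-dimensional schemes of finite type over a field. -/

set_option autoImplicit false

universe u

open CategoryTheory AlgebraicGeometry Order TopologicalSpace

namespace Groth.Agent.CurveDim

open Groth.Agent.DimTheory

variable {k : Type u} [Field k] {X : Scheme.{u}}

theorem closure_mem_components {y : X} (hy : ∀ z : X, z ⤳ y → z = y) :
    closure ({y} : Set X) ∈ irreducibleComponents (X : Type u) := by
  refine ⟨isIrreducible_singleton.closure, fun t ht hyt => ?_⟩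
  have h1 : ht.genericPoint ⤳ y :=
    ht.isGenericPoint_genericPoint_closure.specializes (subset_closure (hyt (subset_closure rfl)))
  intro w hw
  rw [← hy _ h1]
  exact (ht.isGenericPoint_genericPoint_closure.specializes (subset_closure hw)).mem_closure

theorem eq_of_closure_mem_components {x : X} (hx : closure ({x} : Set X) ∈ irreducibleComponents (X : Type u))
    {z : X} (hz : z ⤳ x) : z = x :=
  (hz.antisymm (specializes_iff_mem_closure.2 (hx.2 isIrreducible_singleton.closure
    (closure_minimal (Set.singleton_subset_iff.2 hz.mem_closure) isClosed_closure) (subset_closure rfl)))).eq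

/-- the maximal generization of a closed point has height its coheight -/
theorem exists_max_of_closed (q : X ⟶ Spec (CommRingCat.of k)) [LocallyOfFiniteType q] {x : X}
    (hx : IsClosed ({x} : Set X)) :
    ∃ y : X, y ⤳ x ∧ (∀ z : X, z ⤳ y → z = y) ∧ Order.height y = Order.coheight x := by
  obtain ⟨y, hxy, hmax, he⟩ := exists_height_eq_add_coheight q x
  rw [height_eq_zero_of_isClosed hx, zero_add] at he
  exact ⟨y, hxy, fun z hz => (hz.antisymm (show y ⤳ z from hmax z hz)).eq, he⟩

theorem height_genericPoint_eq_one (q : X ⟶ Spec (CommRingCat.of k)) [LocallyOfFiniteType q]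
    [IrreducibleSpace X] (h : ∀ x : X, IsClosed ({x} : Set X) → ringKrullDim (X.presheaf.stalk x) = 1) :
    Order.height (genericPoint X) = 1 := by
  obtain ⟨x, -, hx⟩ := exists_closedPoint_mem q isOpen_univ ⟨genericPoint X, trivial⟩
  obtain ⟨y, -, hy, he⟩ := exists_max_of_closed q hx
  have h1 := h x hx
  rw [ringKrullDim_stalk_eq_coheight] at h1
  rw [hy _ (genericPoint_specializes y), he]
  exact WithBot.coe_inj.1 h1

theorem isClosed_or_eq (q : X ⟶ Spec (CommRingCat.of k)) [LocallyOfFiniteType q]
    [IrreducibleSpace X] (h1 : Order.height (genericPoint X) = 1) (x : X) :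
    IsClosed ({x} : Set X) ∨ x = genericPoint X := by
  by_cases hlt : x < genericPoint X
  · left
    have h2 := Order.height_strictMono hlt (height_lt_top q x)
    rw [h1] at h2
    exact isClosed_of_height_eq_zero (Order.lt_one_iff.1 h2)
  · right
    have hle : x ≤ genericPoint X := genericPoint_specializes x
    have hge : genericPoint X ≤ x := by by_contra hn; exact hlt (lt_of_le_not_ge hle hn)
    exact ((show genericPoint X ⤳ x from hle).antisymm (show x ⤳ genericPoint X from hge)).eq.symm

theorem finite_of_closed_points [NoetherianSpace X] {S : Set X} (hS : IsClosed S)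
    (h : ∀ x ∈ S, IsClosed ({x} : Set X)) : S.Finite := by
  obtain ⟨T, hTfin, hTc, hTirr, hST⟩ := NoetherianSpace.exists_finite_set_isClosed_irreducible hS
  rw [hST]
  refine hTfin.sUnion fun Z hZ => ?_
  have hgen : (hTirr Z hZ).genericPoint ∈ Z := by
    have := (hTirr Z hZ).isGenericPoint_genericPoint_closure.mem
    rwa [(hTc Z hZ).closure_eq] at this
  have he := (hTirr Z hZ).closure_genericPoint (hTc Z hZ)
  have hmem : (hTirr Z hZ).genericPoint ∈ S := hST ▸ Set.mem_sUnion_of_mem hgen hZ
  rw [(h _ hmem).closure_eq] at he
  rw [← he]
  exact Set.finite_singleton _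

theorem dominant_iff_finite {Y : Scheme.{u}} (qX : X ⟶ Spec (CommRingCat.of k)) (qY : Y ⟶ Spec (CommRingCat.of k))
    [LocallyOfFiniteType qX] [LocallyOfFiniteType qY] [QuasiCompact qX] [IrreducibleSpace X] [IrreducibleSpace Y]
    (hX : Order.height (genericPoint X) = 1) (hY : Order.height (genericPoint Y) = 1)
    (f : X ⟶ Y) (hf : f ≫ qY = qX) : IsDominant f ↔ ∀ y : Y, (f.base ⁻¹' {y}).Finite := by
  have : IsLocallyNoetherian X := LocallyOfFiniteType.isLocallyNoetherian qX
  have : CompactSpace X := QuasiCompact.compactSpace_of_compactSpace qX
  have : IsNoetherian X := {}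
  have : LocallyOfFiniteType f := by subst hf; exact locallyOfFiniteType_of_comp f qY
  have hnc : ∀ {Z : Scheme.{u}} [IrreducibleSpace Z], Order.height (genericPoint Z) = 1 →
      ¬ IsClosed ({genericPoint Z} : Set Z) := fun h hc => by
    rw [height_eq_zero_of_isClosed hc] at h; exact zero_ne_one h
  constructor
  · intro hd y
    have hη : f (genericPoint X) = genericPoint Y := by
      have h1 : genericPoint Y ∈ closure (Set.range f.base) := f.denseRange _
      have h2 : closure (Set.range f.base) ⊆ closure {f (genericPoint X)} := by
        refine closure_minimal ?_ isClosed_closure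
        rintro _ ⟨x, rfl⟩
        exact ((genericPoint_specializes x).map f.continuous).mem_closure
      exact ((specializes_iff_mem_closure.2 (h2 h1)).antisymm (genericPoint_specializes _)).eq
    rcases isClosed_or_eq qY hY y with hy | hy
    · refine finite_of_closed_points (hy.preimage f.continuous) fun x hx => ?_
      rcases isClosed_or_eq qX hX x with h | rfl
      · exact h
      · have : y = genericPoint Y := (show f (genericPoint X) = y from hx) ▸ hη
        exact absurd (this ▸ hy) (hnc hY)
    · refine (Set.finite_singleton (genericPoint X)).subset fun x hx => ?_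
      rcases isClosed_or_eq qX hX x with h | h
      · have := isClosed_image_closedPoint qY f h
        rw [(show f x = y from hx), hy] at this
        exact absurd this (hnc hY)
      · exact h
  · intro hfin
    rcases isClosed_or_eq qY hY (f (genericPoint X)) with hy | hy
    · exfalso
      have hall : ∀ x : X, f x = f (genericPoint X) := fun x => by
        have : f x ∈ ({f (genericPoint X)} : Set Y) :=
          hy.closure_eq ▸ ((genericPoint_specializes x).map f.continuous).mem_closure
        exact this
      have : Finite X := Set.finite_univ_iff.1 ((hfin _).subset fun x _ => hall x)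
      have hc : IsClosed (closedPoints X) := by
        rw [← Set.biUnion_of_singleton (closedPoints X)]
        exact (Set.toFinite _).isClosed_biUnion fun _ h => h
      obtain ⟨x, hxU, hx⟩ := exists_closedPoint_mem qX hc.isOpen_compl ⟨genericPoint X, hnc hX⟩
      exact hxU hx
    · refine ⟨fun z => ?_⟩
      have hsub : ({genericPoint Y} : Set Y) ⊆ Set.range f.base :=
        Set.singleton_subset_iff.2 ⟨genericPoint X, hy⟩
      exact closure_mono hsub (genericPoint_specializes z).mem_closure

end Groth.Agent.CurveDim
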